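import Mathlib

/-!
Weakly étale algebras: purity of the diagonal ideal, absolutely flat rings.
-/

set_option autoImplicit false
set_option backward.isDefEq.respectTransparency false
set_option backward.isDefEq.respectTransparency.types false

noncomputable section

universe u v w

namespace Groth.Agent.FlatMor.AbsFlat

open TensorProduct

/-- every principal ideal is idempotent -/
def IsAbsFlat (R : Type*) [CommRing R] : Prop := ∀ x : R, ∃ a, x = a * x * x

theorem isAbsFlat_of_field (K : Type*) [Field K] : IsAbsFlat K := fun x => by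
  rcases eq_or_ne x 0 with rfl | hx
  · exact ⟨0, by simp⟩
  · exact ⟨x⁻¹, by rw [inv_mul_cancel₀ hx, one_mul]⟩

theorem IsAbsFlat.pi {ι : Type*} {R : ι → Type*} [∀ i, CommRing (R i)]
    (h : ∀ i, IsAbsFlat (R i)) : IsAbsFlat (∀ i, R i) := fun x => by
  choose a ha using fun i => h i (x i)
  exact ⟨a, funext ha⟩

theorem IsAbsFlat.isReduced {R : Type*} [CommRing R] (h : IsAbsFlat R) : IsReduced R := by
  refine ⟨fun x hx => ?_⟩
  obtain ⟨a, ha⟩ := h x
  have hu : IsUnit (1 - a * x) := IsNilpotent.isUnit_one_sub ((Commute.all a x).isNilpotent_mul_left hx)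
  exact hu.mul_right_eq_zero.mp (by linear_combination ha)

theorem IsAbsFlat.flat {R : Type u} [CommRing R] (h : IsAbsFlat R) (M : Type v) [AddCommGroup M]
    [Module R M] : Module.Flat R M := by
  rw [Module.Flat.iff_rTensor_injective]
  intro I hI
  obtain ⟨e, he, hIe⟩ := (Ideal.isIdempotentElem_iff_of_fg I hI).mp (by
    refine le_antisymm Ideal.mul_le_left fun x hx => ?_
    obtain ⟨a, ha⟩ := h x
    rw [ha]
    exact Ideal.mul_mem_mul (I.mul_mem_left a hx) hx)
  have heI : e ∈ I := by rw [hIe]; exact Ideal.mem_span_singleton_self e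
  have key : ∀ t : I ⊗[R] M, ∃ m : M, t = (⟨e, heI⟩ : I) ⊗ₜ[R] m := by
    intro t
    induction t using TensorProduct.induction_on with
    | zero => exact ⟨0, by rw [tmul_zero]⟩
    | tmul x m =>
      have hx := hIe.le x.2
      obtain ⟨c, hc⟩ := Ideal.mem_span_singleton'.mp hx
      refine ⟨c • m, ?_⟩
      rw [← smul_tmul]
      congr 1
      exact Subtype.ext hc.symm
    | add a b ha hb =>
      obtain ⟨m, rfl⟩ := ha
      obtain ⟨m', rfl⟩ := hb
      exact ⟨m + m', (tmul_add _ _ _).symm⟩
  rw [injective_iff_map_eq_zero]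
  intro t ht
  obtain ⟨m, rfl⟩ := key t
  have h1 : e • m = 0 := by
    have := congrArg (TensorProduct.lid R M) ht
    simpa using this
  have h2 : (⟨e, heI⟩ : I) = e • (⟨e, heI⟩ : I) := Subtype.ext he.eq.symm
  rw [h2, smul_tmul, h1, tmul_zero]

theorem exists_mul_eq_of_flat_quotient {T : Type u} [CommRing T] (I : Ideal T) [Module.Flat T (T ⧸ I)]
    {y : T} (hy : y ∈ I) : ∃ e ∈ I, e * y = y := by
  let J : Ideal T := Ideal.span {y}
  let y' : J := ⟨y, Ideal.mem_span_singleton_self y⟩
  have h0 : y' ⊗ₜ[T] (Ideal.Quotient.mk I 1) = 0 := by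
    apply Module.Flat.rTensor_preserves_injective_linearMap (M := T ⧸ I) J.subtype
      J.injective_subtype
    apply (TensorProduct.lid T (T ⧸ I)).injective
    rw [map_zero, map_zero, LinearMap.rTensor_tmul, TensorProduct.lid_tmul]
    exact (Ideal.Quotient.eq_zero_iff_mem.mpr (by simpa [y'] using hy) :
      Ideal.Quotient.mk I (y * 1) = 0)
  have h1 := congrArg (TensorProduct.tensorQuotEquivQuotSMul J I) h0
  rw [TensorProduct.tensorQuotEquivQuotSMul_tmul_mk, one_smul, map_zero,
    Submodule.Quotient.mk_eq_zero] at h1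
  have h2 := Submodule.mem_map_of_mem (f := J.subtype) h1
  rw [Submodule.map_smul'', Submodule.map_top, Submodule.range_subtype] at h2
  exact Ideal.mem_mul_span_singleton.mp h2

section weaklyEtale

variable (R : Type u) (S : Type v) [CommRing R] [CommRing S] [Algebra R S]

/-- the diagonal ideal -/
abbrev diag : Ideal (S ⊗[R] S) :=
  RingHom.ker (Algebra.TensorProduct.lmul' R (S := S)).toRingHom

theorem flat_quotient_diag [Algebra.WeaklyEtale R S] : Module.Flat (S ⊗[R] S) ((S ⊗[R] S) ⧸ diag R S) := by
  let f := (Algebra.TensorProduct.lmul' R (S := S)).toRingHom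
  have hf : f.Flat := Algebra.WeaklyEtale.flat_lmul' R S
  letI : Algebra (S ⊗[R] S) S := f.toAlgebra
  haveI : Module.Flat (S ⊗[R] S) S := hf
  refine Module.Flat.of_linearEquiv (R := S ⊗[R] S) (M := S) ?_
  exact (Ideal.quotientKerAlgEquivOfSurjective (f := Algebra.ofId (S ⊗[R] S) S)
    (fun s => ⟨1 ⊗ₜ s, by simp [Algebra.ofId_apply, RingHom.algebraMap_toAlgebra, f]⟩)).toLinearEquiv

theorem isIdempotentElem_diag [Algebra.WeaklyEtale R S] : IsIdempotentElem (diag R S) := by
  haveI := flat_quotient_diag R S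
  refine le_antisymm Ideal.mul_le_left fun y hy => ?_
  obtain ⟨e, he, hey⟩ := exists_mul_eq_of_flat_quotient (diag R S) hy
  rw [← hey]
  exact Ideal.mul_mem_mul he hy

theorem formallyUnramified [Algebra.WeaklyEtale R S] : Algebra.FormallyUnramified R S :=
  ⟨(Ideal.cotangent_subsingleton_iff _).mpr (isIdempotentElem_diag R S)⟩

variable {R S}

theorem isAbsFlat_of_weaklyEtale [Algebra.WeaklyEtale R S] (h : IsAbsFlat R) : IsAbsFlat S := by
  intro x
  haveI := flat_quotient_diag R S
  obtain ⟨e, he, hey⟩ := exists_mul_eq_of_flat_quotient (diag R S) (y := x ⊗ₜ[R] 1 - 1 ⊗ₜ[R] x)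
    (by simp [RingHom.mem_ker])
  -- work in `xS ⊗ S/xS`
  let J : Ideal S := Ideal.span {x}
  let N : Submodule R S := J.restrictScalars R
  haveI : Module.Flat R (S ⧸ J) := h.flat _
  have hinj : Function.Injective (N.subtype.rTensor (S ⧸ J)) :=
    Module.Flat.rTensor_preserves_injective_linearMap _ N.injective_subtype
  let μ : S →ₗ[R] N :=
    { toFun := fun s => ⟨x * s, J.mul_mem_right s (Ideal.mem_span_singleton_self x)⟩
      map_add' := fun a b => Subtype.ext (mul_add x a b)
      map_smul' := fun r a => Subtype.ext (mul_smul_comm r x a) }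
  let mk : S →ₗ[R] S ⧸ J := (Ideal.Quotient.mkₐ R J).toLinearMap
  let a : S ⊗[R] S := 1 - e
  have hw : x ⊗ₜ[R] 1 * a = 1 ⊗ₜ[R] x * a := by
    simp only [a]; linear_combination -hey
  have h1 : ∀ t, N.subtype.rTensor (S ⧸ J) (TensorProduct.map μ mk t) =
      TensorProduct.map LinearMap.id mk (x ⊗ₜ[R] 1 * t) := by
    intro t
    induction t using TensorProduct.induction_on with
    | zero => simp
    | tmul p q => simp [μ]
    | add b c hb hc => simp only [map_add, mul_add, hb, hc]
  have h2 : ∀ t : S ⊗[R] S, TensorProduct.map (LinearMap.id : S →ₗ[R] S) mk (1 ⊗ₜ[R] x * t) = 0 := by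
    intro t
    induction t using TensorProduct.induction_on with
    | zero => simp
    | tmul p q =>
      rw [Algebra.TensorProduct.tmul_mul_tmul, TensorProduct.map_tmul,
        show mk (x * q) = 0 from
          Ideal.Quotient.eq_zero_iff_mem.mpr (J.mul_mem_right q (Ideal.mem_span_singleton_self x)),
        tmul_zero]
    | add b c hb hc => simp only [map_add, mul_add, hb, hc, add_zero]
  have h3 : TensorProduct.map μ mk a = 0 := by
    apply hinj
    rw [h1, hw, h2, map_zero]
  have hn : ∀ n : N, J ≤ Submodule.comap (LinearMap.mulLeft S (n : S)) (Ideal.span {x * x} : Ideal S) := by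
    intro n q hq
    show (n : S) * q ∈ Ideal.span {x * x}
    obtain ⟨c, hc⟩ := Ideal.mem_span_singleton'.mp n.2
    obtain ⟨d, rfl⟩ := Ideal.mem_span_singleton'.mp hq
    rw [← hc]
    exact Ideal.mem_span_singleton'.mpr ⟨c * d, by ring⟩
  let ψ₀ : N →ₗ[R] (S ⧸ J) →ₗ[R] (S ⧸ Ideal.span {x * x}) :=
    { toFun := fun n => (Submodule.mapQ J (Ideal.span {x * x}) _ (hn n)).restrictScalars R
      map_add' := fun n n' => LinearMap.ext fun m => by
        obtain ⟨q, rfl⟩ := Submodule.Quotient.mk_surjective _ m
        exact congrArg (Submodule.Quotient.mk (p := Ideal.span {x * x})) (add_mul (n : S) (n' : S) q)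
      map_smul' := fun r n => LinearMap.ext fun m => by
        obtain ⟨q, rfl⟩ := Submodule.Quotient.mk_surjective _ m
        exact congrArg (Submodule.Quotient.mk (p := Ideal.span {x * x})) (smul_mul_assoc r (n : S) q) }
  have h4 : ∀ t, TensorProduct.lift ψ₀ (TensorProduct.map μ mk t) =
      Ideal.Quotient.mk (Ideal.span {x * x}) (x * Algebra.TensorProduct.lmul' R (S := S) t) := by
    intro t
    induction t using TensorProduct.induction_on with
    | zero => simp
    | tmul p q =>
      rw [TensorProduct.map_tmul, TensorProduct.lift.tmul, Algebra.TensorProduct.lmul'_apply_tmul,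
        ← mul_assoc]
      rfl
    | add b c hb hc => simp only [map_add, mul_add, hb, hc]
  have he0 : Algebra.TensorProduct.lmul' R (S := S) e = 0 := he
  have h5 := h4 a
  rw [h3, map_zero, map_sub, map_one, he0, sub_zero, mul_one] at h5
  obtain ⟨c, hc⟩ := Ideal.mem_span_singleton'.mp (Ideal.Quotient.eq_zero_iff_mem.mp h5.symm)
  exact ⟨c, by rw [mul_assoc]; exact hc.symm⟩

end weaklyEtale

end Groth.Agent.FlatMor.AbsFlat

namespace Groth.Agent.FlatMor.AbsFlat

open TensorProduct

theorem IsAbsFlat.formallyUnramified {K F : Type u} [CommRing K] [CommRing F] [Algebra K F]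
    (h : IsAbsFlat (F ⊗[K] F)) : Algebra.FormallyUnramified K F := by
  refine ⟨(Ideal.cotangent_subsingleton_iff _).mpr ?_⟩
  refine le_antisymm Ideal.mul_le_left fun y hy => ?_
  obtain ⟨a, ha⟩ := h y
  rw [ha]
  exact Ideal.mul_mem_mul (Ideal.mul_mem_left _ a hy) hy

theorem isSeparable_of_weaklyEtale (K L : Type u) [Field K] [Field L] [Algebra K L]
    [Algebra.WeaklyEtale K L] : Algebra.IsSeparable K L := by
  refine ⟨fun x => ?_⟩
  have hV : IsAbsFlat (L ⊗[K] L) :=
    isAbsFlat_of_weaklyEtale (R := L) (S := L ⊗[K] L) (isAbsFlat_of_field L)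
  let F := IntermediateField.adjoin K ({x} : Set L)
  let i : F →ₗ[F] L := Algebra.linearMap F L
  obtain ⟨σ, hσ⟩ := i.exists_leftInverse_of_injective
    (LinearMap.ker_eq_bot.mpr (algebraMap F L).injective)
  let ι : F ⊗[K] F →ₐ[K] L ⊗[K] L :=
    Algebra.TensorProduct.map (IsScalarTower.toAlgHom K F L) (IsScalarTower.toAlgHom K F L)
  let ρ : L ⊗[K] L →ₗ[K] F ⊗[K] F :=
    TensorProduct.map (σ.restrictScalars K) (σ.restrictScalars K)
  have hmul : ∀ u v, ρ (ι u * v) = u * ρ v := by
    intro u v
    induction u using TensorProduct.induction_on with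
    | zero => simp
    | add a b ha hb => rw [map_add, add_mul, map_add, ha, hb, add_mul]
    | tmul p q =>
      induction v using TensorProduct.induction_on with
      | zero => simp
      | add a b ha hb => rw [mul_add, map_add, ha, hb, map_add, mul_add]
      | tmul l m =>
        simp only [ι, ρ, Algebra.TensorProduct.map_tmul, Algebra.TensorProduct.tmul_mul_tmul,
          TensorProduct.map_tmul, LinearMap.coe_restrictScalars]
        exact congrArg₂ (fun a b => a ⊗ₜ[K] b) (σ.map_smul p l) (σ.map_smul q m)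
  have h1 : ρ 1 = 1 := by
    have : σ 1 = 1 := by
      have := LinearMap.congr_fun hσ 1
      simpa [i] using this
    simp only [ρ, Algebra.TensorProduct.one_def, TensorProduct.map_tmul,
      LinearMap.coe_restrictScalars, this]
  have hU : IsAbsFlat (F ⊗[K] F) := by
    intro u
    obtain ⟨a, ha⟩ := hV (ι u)
    refine ⟨ρ a, ?_⟩
    calc u = u * ρ 1 := by rw [h1, mul_one]
      _ = ρ (ι u * 1) := (hmul u 1).symm
      _ = ρ (ι (u * u) * a) := by
          rw [mul_one]; exact congrArg ρ (ha.trans (by rw [map_mul]; ring))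
      _ = ρ a * u * u := by rw [hmul]; ring
  haveI := hU.formallyUnramified
  haveI : Algebra.EssFiniteType K F :=
    IntermediateField.essFiniteType_iff.mpr ⟨{x}, by rw [Finset.coe_singleton]⟩
  haveI : Algebra.IsSeparable K F := Algebra.FormallyUnramified.isSeparable K F
  exact IntermediateField.isSeparable_adjoin_simple_iff_isSeparable K L |>.mp inferInstance

theorem isReduced_of_weaklyEtale (R S : Type u) [CommRing R] [CommRing S] [Algebra R S]
    [Algebra.WeaklyEtale R S] [IsReduced R] : IsReduced S := by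
  let Q := ∀ p : PrimeSpectrum R, p.asIdeal.ResidueField
  haveI := (isAbsFlat_of_weaklyEtale (R := Q) (S := Q ⊗[R] S)
    (IsAbsFlat.pi fun p => isAbsFlat_of_field _)).isReduced
  refine isReduced_of_injective (Algebra.TensorProduct.includeRight : S →ₐ[R] Q ⊗[R] S) ?_
  have hinj : Function.Injective (Algebra.linearMap R Q) := by
    rw [injective_iff_map_eq_zero]
    intro r hr
    have hn : r ∈ nilradical R := by
      rw [nilradical_eq_sInf, Ideal.mem_sInf]
      intro J hJ
      haveI : J.IsPrime := hJ
      have hp := congrFun hr ⟨J, hJ⟩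
      exact Ideal.algebraMap_residueField_eq_zero.mp hp
    simpa [nilradical_eq_zero] using hn
  have := Module.Flat.rTensor_preserves_injective_linearMap (M := S) _ hinj
  intro a b hab
  apply (TensorProduct.lid R S).symm.injective
  apply this
  simpa using hab

open CategoryTheory AlgebraicGeometry

theorem weaklyEtale_of_scheme {A B : CommRingCat.{u}} (φ : A ⟶ B)
    [AlgebraicGeometry.WeaklyEtale (Spec.map φ)] :
    letI := φ.hom.toAlgebra; Algebra.WeaklyEtale A B := by
  algebraize [φ.hom]
  have h1 : Flat (Spec.map φ) := inferInstance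
  have h2 : Flat (Limits.pullback.diagonal (Spec.map φ)) := inferInstance
  rw [HasRingHomProperty.Spec_iff (P := @Flat)] at h1
  rw [show φ = CommRingCat.ofHom (algebraMap A B) from rfl, diagonal_SpecMap A B,
    MorphismProperty.cancel_right_of_respectsIso (P := @Flat),
    HasRingHomProperty.Spec_iff (P := @Flat)] at h2
  exact ⟨h1, h2⟩

theorem weaklyEtale_appLE {X Y : Scheme.{u}} (f : X ⟶ Y) [AlgebraicGeometry.WeaklyEtale f]
    {U : Y.Opens} (hU : IsAffineOpen U) {V : X.Opens} (hV : IsAffineOpen V) (e : V ≤ f ⁻¹ᵁ U) :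
    letI := (f.appLE U V e).hom.toAlgebra; Algebra.WeaklyEtale Γ(Y, U) Γ(X, V) := by
  haveI : AlgebraicGeometry.WeaklyEtale (Spec.map (f.appLE U V e) ≫ hU.fromSpec) := by
    rw [IsAffineOpen.SpecMap_appLE_fromSpec f hU hV e]; infer_instance
  haveI := WeaklyEtale.of_comp (Spec.map (f.appLE U V e)) hU.fromSpec
  exact weaklyEtale_of_scheme (f.appLE U V e)

end Groth.Agent.FlatMor.AbsFlat

namespace Groth.Agent.FlatMor.AbsFlat

open CategoryTheory AlgebraicGeometry

theorem weaklyEtale_SpecMap {A B : CommRingCat.{u}} (φ : A ⟶ B)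
    (h : letI := φ.hom.toAlgebra; Algebra.WeaklyEtale A B) :
    AlgebraicGeometry.WeaklyEtale (Spec.map φ) := by
  algebraize [φ.hom]
  refine ⟨?_, ?_⟩
  · rw [HasRingHomProperty.Spec_iff (P := @Flat)]
    exact h.flat
  · rw [show φ = CommRingCat.ofHom (algebraMap A B) from rfl, diagonal_SpecMap A B,
      MorphismProperty.cancel_right_of_respectsIso (P := @Flat),
      HasRingHomProperty.Spec_iff (P := @Flat)]
    exact h.flat_lmul'

theorem weaklyEtale_of_forall_appLE {X Y : Scheme.{u}} (f : X ⟶ Y)
    (h : ∀ x, ∃ (U : X.Opens) (V : Y.Opens) (_ : IsAffineOpen U) (_ : IsAffineOpen V)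
      (e : U ≤ f ⁻¹ᵁ V), x ∈ U ∧ (letI := (f.appLE V U e).hom.toAlgebra
        Algebra.WeaklyEtale Γ(Y, V) Γ(X, U))) :
    AlgebraicGeometry.WeaklyEtale f := by
  choose U V hU hV e hx hwe using h
  refine (IsZariskiLocalAtSource.iff_of_iSup_eq_top (P := @AlgebraicGeometry.WeaklyEtale) U
    (eq_top_iff.mpr fun x _ => TopologicalSpace.Opens.mem_iSup.mpr ⟨x, hx x⟩)).mpr fun x => ?_
  haveI := weaklyEtale_SpecMap _ (hwe x)
  have : (U x).ι ≫ f = (hU x).isoSpec.hom ≫ (Spec.map (f.appLE (V x) (U x) (e x)) ≫ (hV x).fromSpec) := by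
    rw [IsAffineOpen.SpecMap_appLE_fromSpec f (hV x) (hU x) (e x), IsAffineOpen.fromSpec]
    simp
  rw [this]
  infer_instance

end Groth.Agent.FlatMor.AbsFlat

namespace Groth.Agent.FlatMor.AbsFlat

open TensorProduct

theorem flat_of_faithfullyFlat_comp (R S T : Type u) [CommRing R] [CommRing S] [CommRing T] [Algebra R S]
    [Algebra S T] [Algebra R T] [IsScalarTower R S T] [Module.FaithfullyFlat S T] [Module.Flat R T] :
    Module.Flat R S := by
  rw [Module.Flat.iff_lTensor_preserves_injective_linearMap]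
  intro N N' _ _ _ _ u hu
  let ι := fun (P : Type u) [AddCommGroup P] [Module R P] (x : S ⊗[R] P) =>
    (AlgebraTensorModule.cancelBaseChange R S T T P) (1 ⊗ₜ[S] x)
  have hι : ∀ (P : Type u) [AddCommGroup P] [Module R P], Function.Injective (ι P) := fun P _ _ =>
    (AlgebraTensorModule.cancelBaseChange R S T T P).injective.comp
      (Module.FaithfullyFlat.tensorProduct_mk_injective (A := S) (B := T) (S ⊗[R] P))
  have hnat : ∀ x, ι N' (u.lTensor S x) = u.lTensor T (ι N x) := by
    intro x
    induction x using TensorProduct.induction_on with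
    | zero => simp [ι]
    | tmul s n => simp [ι]
    | add a b ha hb => simp only [ι, map_add, tmul_add] at ha hb ⊢; rw [ha, hb]
  intro a b hab
  apply hι N
  apply Module.Flat.lTensor_preserves_injective_linearMap (M := T) u hu
  rw [← hnat, ← hnat, hab]

end Groth.Agent.FlatMor.AbsFlat

namespace Groth.Agent.FlatMor.AbsFlat

open TensorProduct

theorem flat_of_flat_lmul {R S M : Type u} [CommRing R] [CommRing S] [Algebra R S] [AddCommGroup M]
    [Module R M] [Module S M] [IsScalarTower R S M]
    (hm : (Algebra.TensorProduct.lmul' R (S := S)).toRingHom.Flat) [Module.Flat R M] :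
    Module.Flat S M := by
  let f := (Algebra.TensorProduct.lmul' R (S := S)).toRingHom
  haveI hq : Module.Flat (S ⊗[R] S) ((S ⊗[R] S) ⧸ diag R S) := by
    letI : Algebra (S ⊗[R] S) S := f.toAlgebra
    haveI : Module.Flat (S ⊗[R] S) S := hm
    refine Module.Flat.of_linearEquiv (R := S ⊗[R] S) (M := S) ?_
    exact (Ideal.quotientKerAlgEquivOfSurjective (f := Algebra.ofId (S ⊗[R] S) S)
      (fun s => ⟨1 ⊗ₜ s, by simp [Algebra.ofId_apply, RingHom.algebraMap_toAlgebra, f]⟩)).toLinearEquiv
  rw [Module.Flat.iff_rTensor_preserves_injective_linearMap]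
  intro N N' _ _ _ _ u hu
  letI : Module R N := Module.compHom N (algebraMap R S)
  letI : Module R N' := Module.compHom N' (algebraMap R S)
  haveI : IsScalarTower R S N := IsScalarTower.of_compHom R S N
  haveI : IsScalarTower R S N' := IsScalarTower.of_compHom R S N'
  -- the action of `S ⊗ S`
  let actN : S ⊗[R] S →ₐ[R] Module.End R (N ⊗[R] M) :=
    (Module.endTensorEndAlgHom (R := R) (S := R) (A := R)).comp
      (Algebra.TensorProduct.map (Algebra.lsmul R R N) (Algebra.lsmul R R M))
  let actN' : S ⊗[R] S →ₐ[R] Module.End R (N' ⊗[R] M) :=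
    (Module.endTensorEndAlgHom (R := R) (S := R) (A := R)).comp
      (Algebra.TensorProduct.map (Algebra.lsmul R R N') (Algebra.lsmul R R M))
  have hactN : ∀ s t n m, actN (s ⊗ₜ t) (n ⊗ₜ m) = (s • n) ⊗ₜ (t • m) := fun s t n m => by simp [actN]; rfl
  have hactN' : ∀ s t n m, actN' (s ⊗ₜ t) (n ⊗ₜ m) = (s • n) ⊗ₜ (t • m) := fun s t n m => by simp [actN']; rfl
  let v := (u.restrictScalars R).rTensor M
  have hv : Function.Injective v :=
    Module.Flat.rTensor_preserves_injective_linearMap _ (show Function.Injective (u.restrictScalars R) from hu)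
  have hcomm : ∀ a z, v (actN a z) = actN' a (v z) := by
    intro a z
    induction a using TensorProduct.induction_on with
    | zero => simp
    | add a b ha hb => simp only [map_add, LinearMap.add_apply, ha, hb]
    | tmul s t =>
      induction z using TensorProduct.induction_on with
      | zero => simp
      | add a b ha hb => simp only [map_add, ha, hb]
      | tmul n m => simp [v, hactN, hactN']
  let q := TensorProduct.mapOfCompatibleSMul S R R N M
  have hqact : ∀ a z, q (actN a z) = Algebra.TensorProduct.lmul' R (S := S) a • q z := by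
    intro a z
    induction a using TensorProduct.induction_on with
    | zero => simp
    | add a b ha hb => simp only [map_add, LinearMap.add_apply, ha, hb, add_smul]
    | tmul s t =>
      induction z using TensorProduct.induction_on with
      | zero => simp
      | add a b ha hb => simp only [map_add, ha, hb, smul_add]
      | tmul n m =>
        rw [hactN]
        simp only [q, TensorProduct.mapOfCompatibleSMul_tmul, Algebra.TensorProduct.lmul'_apply_tmul]
        rw [TensorProduct.tmul_smul, TensorProduct.smul_tmul', smul_smul, mul_comm, TensorProduct.smul_tmul']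
  let P : AddSubgroup (N' ⊗[R] M) :=
    { carrier := {w | ∃ e ∈ diag R S, actN' (1 - e) w = 0}
      zero_mem' := ⟨0, zero_mem _, map_zero _⟩
      add_mem' := by
        rintro a b ⟨e, he, ha⟩ ⟨e', he', hb⟩
        refine ⟨e + e' - e * e', sub_mem (add_mem he he') (Ideal.mul_mem_left _ _ he'), ?_⟩
        have e1 : 1 - (e + e' - e * e') = (1 - e') * (1 - e) := by ring
        rw [e1, map_mul, Module.End.mul_apply, map_add, ha, zero_add, ← Module.End.mul_apply,
          ← map_mul, mul_comm, map_mul, Module.End.mul_apply, hb, map_zero]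
      neg_mem' := by
        rintro a ⟨e, he, ha⟩
        exact ⟨e, he, by rw [map_neg, ha, neg_zero]⟩ }
  let mkP : N' ⊗[R] M →+ (N' ⊗[R] M) ⧸ P := QuotientAddGroup.mk' P
  let β : N' ⊗[S] M →+ (N' ⊗[R] M) ⧸ P := TensorProduct.liftAddHom
    (AddMonoidHom.mk' (fun n => mkP.comp (TensorProduct.mk R N' M n).toAddMonoidHom)
      (fun a b => by ext m; simp [TensorProduct.add_tmul]))
    (fun s n m => by
      show mkP ((s • n) ⊗ₜ m) = mkP (n ⊗ₜ (s • m))
      refine (QuotientAddGroup.mk'_eq_mk' P).mpr ⟨n ⊗ₜ (s • m) - (s • n) ⊗ₜ m, ?_, by abel⟩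
      obtain ⟨e, he, hey⟩ := exists_mul_eq_of_flat_quotient (diag R S) (y := 1 ⊗ₜ[R] s - s ⊗ₜ[R] 1)
        (by simp [RingHom.mem_ker])
      refine ⟨e, he, ?_⟩
      have e1 : n ⊗ₜ[R] (s • m) - (s • n) ⊗ₜ[R] m = actN' (1 ⊗ₜ[R] s - s ⊗ₜ[R] 1) (n ⊗ₜ m) := by
        rw [map_sub, LinearMap.sub_apply, hactN', hactN', one_smul, one_smul]
      rw [e1, ← Module.End.mul_apply, ← map_mul,
        show (1 - e) * (1 ⊗ₜ[R] s - s ⊗ₜ[R] 1) = 0 by linear_combination -hey, map_zero,
        LinearMap.zero_apply])
  have hβ : ∀ w, β (TensorProduct.mapOfCompatibleSMul S R R N' M w) = mkP w := by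
    intro w
    induction w using TensorProduct.induction_on with
    | zero => simp
    | add a b ha hb => simp only [map_add, ha, hb]
    | tmul n m => simp [β]
  have hnat : ∀ z, u.rTensor M (q z) = TensorProduct.mapOfCompatibleSMul S R R N' M (v z) := by
    intro z
    induction z using TensorProduct.induction_on with
    | zero => simp
    | add a b ha hb => simp only [map_add, ha, hb]
    | tmul n m => simp [q, v]
  rw [injective_iff_map_eq_zero]
  intro y hy
  obtain ⟨z, rfl⟩ := TensorProduct.mapOfCompatibleSMul_surjective S R R N M y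
  have h1 : mkP (v z) = 0 := by rw [← hβ, ← hnat, hy, map_zero]
  obtain ⟨e, he, h2⟩ : v z ∈ P := (QuotientAddGroup.eq_zero_iff _).mp h1
  rw [← hcomm] at h2
  have h3 := congrArg q (hv (h2.trans (map_zero v).symm))
  rw [hqact, map_zero, map_sub, map_one, show Algebra.TensorProduct.lmul' R (S := S) e = 0 from he,
    sub_zero, one_smul] at h3
  exact h3

open CategoryTheory AlgebraicGeometry Limits

theorem flat_lmul_stalk {X Y : Scheme.{u}} (f : X ⟶ Y) [Flat (pullback.diagonal f)] (x : X)
    [Flat (X.fromSpecStalk x)] :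
    letI := (f.stalkMap x).hom.toAlgebra
    (Algebra.TensorProduct.lmul' (S := ↑(X.presheaf.stalk x))
      (↑(Y.presheaf.stalk (f x)))).toRingHom.Flat := by
  let s := Spec.map (f.stalkMap x)
  let t := Y.fromSpecStalk (f x)
  let a := X.fromSpecStalk x
  have hst : s ≫ t = a ≫ f := Scheme.SpecMap_stalkMap_fromSpecStalk f
  have h1 : (MorphismProperty.diagonal @Flat) (s ≫ t) :=
    hst ▸ MorphismProperty.comp_mem _ a f (show Flat (pullback.diagonal a) by infer_instance)
      ‹Flat (pullback.diagonal f)›
  let i := pullback.map s s (s ≫ t) (s ≫ t) (𝟙 _) (𝟙 _) t (by simp) (by simp)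
  let i' : pullback (s ≫ t) (s ≫ t) ⟶ pullback s s :=
    pullback.lift (pullback.fst _ _) (pullback.snd _ _)
      (by rw [← cancel_mono t, Category.assoc, Category.assoc]; exact pullback.condition)
  haveI : IsIso i' := ⟨i, by apply pullback.hom_ext <;> simp [i, i', pullback.lift_fst, pullback.lift_snd, pullback.lift_fst_assoc, pullback.lift_snd_assoc],
    by apply pullback.hom_ext <;> simp [i, i', pullback.lift_fst, pullback.lift_snd, pullback.lift_fst_assoc, pullback.lift_snd_assoc]⟩
  haveI : Flat (pullback.diagonal (s ≫ t)) := h1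
  have hsq : pullback.diagonal (s ≫ t) ≫ i' = pullback.diagonal s := by
    apply pullback.hom_ext <;> simp [i']
  have h2 : Flat (pullback.diagonal s) := hsq ▸ inferInstance
  algebraize [(f.stalkMap x).hom]
  rw [show s = Spec.map (CommRingCat.ofHom (algebraMap ↑(Y.presheaf.stalk (f x)) ↑(X.presheaf.stalk x)))
      from rfl, diagonal_SpecMap, MorphismProperty.cancel_right_of_respectsIso (P := @Flat),
    HasRingHomProperty.Spec_iff (P := @Flat)] at h2
  exact h2

end Groth.Agent.FlatMor.AbsFlat
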