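import Mathlib

/-!
Geometric properties of fibres are insensitive to base change.
-/

set_option autoImplicit false
set_option backward.isDefEq.respectTransparency false
set_option backward.isDefEq.respectTransparency.types false

noncomputable section

universe u

namespace Groth.Agent.FlatMor.GeomFibre

open AlgebraicGeometry CategoryTheory CategoryTheory.Limits

theorem flat_spec_field {K L : Type u} [Field K] [Field L]
    (m : Spec (CommRingCat.of L) ⟶ Spec (CommRingCat.of K)) : Flat m := by
  obtain ⟨φ, rfl⟩ := Spec.map_surjective m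
  rw [HasRingHomProperty.Spec_iff (P := @Flat)]
  algebraize [φ.hom]
  exact (inferInstance : Module.Flat K L)

theorem surjective_spec_field {K L : Type u} [Field K] [Field L]
    (m : Spec (CommRingCat.of L) ⟶ Spec (CommRingCat.of K)) : Surjective m :=
  ⟨fun x => ⟨default, Subsingleton.elim _ _⟩⟩

theorem geometrically_iff_of_isPullback_field (P : ObjectProperty Scheme.{u})
    [P.IsClosedUnderIsomorphisms]
    (hdesc : ∀ {X' X : Scheme.{u}} (p : X' ⟶ X) [Flat p] [Surjective p], P X' → P X)
    {F F' : Scheme.{u}} {k k' : Type u} [Field k] [Field k'] {π : F ⟶ Spec (CommRingCat.of k)}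
    {π' : F' ⟶ Spec (CommRingCat.of k')} {p : F' ⟶ F}
    {a : Spec (CommRingCat.of k') ⟶ Spec (CommRingCat.of k)} (hc : IsPullback p π' π a) :
    geometrically P π' ↔ geometrically P π := by
  refine ⟨fun h K _ y Z fst snd hZ => ?_, fun h => MorphismProperty.of_isPullback hc h⟩
  obtain ⟨w⟩ : Nonempty ↑(pullback y a) := by
    haveI := surjective_spec_field a
    obtain ⟨w, -⟩ := (MorphismProperty.pullback_fst y a ‹Surjective a› :
      Surjective (pullback.fst y a)).surj (default : Spec (CommRingCat.of K))
    exact ⟨w⟩
  let L := (pullback y a).residueField w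
  let l : Spec (CommRingCat.of L) ⟶ Spec (CommRingCat.of K) :=
    (pullback y a).fromSpecResidueField w ≫ pullback.fst y a
  let l' : Spec (CommRingCat.of L) ⟶ Spec (CommRingCat.of k') :=
    (pullback y a).fromSpecResidueField w ≫ pullback.snd y a
  have hl : l ≫ y = l' ≫ a := by simp only [l, l', Category.assoc, pullback.condition]
  have h1 : IsPullback (pullback.fst snd l ≫ fst) (pullback.snd snd l) π (l' ≫ a) :=
    hl ▸ (IsPullback.of_hasPullback snd l).paste_horiz hZ
  have hw : (pullback.fst snd l ≫ fst) ≫ π = (pullback.snd snd l ≫ l') ≫ a := by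
    rw [Category.assoc (pullback.snd snd l)]; exact h1.w
  have h2 : IsPullback (hc.lift _ _ hw) (pullback.snd snd l) π' l' := by
    refine IsPullback.of_right ?_ (hc.lift_snd _ _ hw) hc
    rw [hc.lift_fst _ _ hw]
    exact h1
  haveI := flat_spec_field l
  haveI := surjective_spec_field l
  exact hdesc (pullback.fst snd l) (h _ _ _ h2)

theorem geometrically_fiber_baseChange_iff (P : ObjectProperty Scheme.{u})
    [P.IsClosedUnderIsomorphisms]
    (hdesc : ∀ {X' X : Scheme.{u}} (p : X' ⟶ X) [Flat p] [Surjective p], P X' → P X)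
    {X Y X' Y' : Scheme.{u}} {f : X ⟶ Y} {g : Y' ⟶ Y} {f' : X' ⟶ Y'} {g' : X' ⟶ X}
    (hc : IsPullback g' f' f g) (y' : Y') :
    geometrically P (f'.fiberToSpecResidueField y') ↔
      geometrically P (f.fiberToSpecResidueField (g y')) := by
  let a := Spec.map (g.residueFieldMap y')
  have ha : a ≫ Y.fromSpecResidueField (g y') = Y'.fromSpecResidueField y' ≫ g :=
    g.SpecMap_residueFieldMap_fromSpecResidueField y'
  have h1 : IsPullback (f'.fiberι y' ≫ g') (f'.fiberToSpecResidueField y') f
      (a ≫ Y.fromSpecResidueField (g y')) :=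
    ha.symm ▸ (IsPullback.of_hasPullback f' (Y'.fromSpecResidueField y')).paste_horiz hc
  have hF : IsPullback (f.fiberι (g y')) (f.fiberToSpecResidueField (g y')) f
      (Y.fromSpecResidueField (g y')) := IsPullback.of_hasPullback _ _
  have hw : (f'.fiberι y' ≫ g') ≫ f = (f'.fiberToSpecResidueField y' ≫ a) ≫
      Y.fromSpecResidueField (g y') := by
    rw [Category.assoc (f'.fiberToSpecResidueField y')]; exact h1.w
  have h2 : IsPullback (hF.lift _ _ hw) (f'.fiberToSpecResidueField y')
      (f.fiberToSpecResidueField (g y')) a := by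
    refine IsPullback.of_right ?_ (hF.lift_snd _ _ hw) hF
    rw [hF.lift_fst _ _ hw]
    exact h1
  exact geometrically_iff_of_isPullback_field P hdesc h2

theorem isReduced_of_flat_surjective {X' X : Scheme.{u}} (p : X' ⟶ X) [Flat p] [Surjective p]
    [IsReduced X'] : IsReduced X := by
  haveI : ∀ x : X, _root_.IsReduced (X.presheaf.stalk x) := fun x => by
    obtain ⟨x', rfl⟩ := p.surjective x
    have hf : (p.stalkMap x').hom.Flat := Flat.stalkMap p x'
    refine isReduced_of_injective (p.stalkMap x').hom ?_
    algebraize [(p.stalkMap x').hom]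
    haveI : IsLocalHom (algebraMap (X.presheaf.stalk (p x')) (X'.presheaf.stalk x')) :=
      inferInstanceAs (IsLocalHom (p.stalkMap x').hom)
    haveI := Module.FaithfullyFlat.of_flat_of_isLocalHom (A := X.presheaf.stalk (p x'))
      (B := X'.presheaf.stalk x')
    exact FaithfulSMul.algebraMap_injective (X.presheaf.stalk (p x')) (X'.presheaf.stalk x')
  exact isReduced_of_isReduced_stalk X

end Groth.Agent.FlatMor.GeomFibre
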